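/-
Prime divisors of cyclotomic values and Zsigmondy's theorem.

* `exists_eq_pow_mul_orderOf`: if `r ∣ Φ_n(a)` then `n = r ^ j * ord_r(a)`
* `primitive_of_orderOf_eq`: `ord_r(a) = n` gives a primitive prime divisor
* `not_sq_dvd_cyclotomic`: an imprimitive prime divides `Φ_n(a)` at most once (`n > 2`)
* `natAbs_cyclotomic_eq_of_no_primitive`: without primitive divisor `Φ_n(a)` is the largest prime of `n`
* `exists_primitive`: Zsigmondy's theorem
-/
import Cfsg.Agent.EqLemmas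

set_option autoImplicit false

namespace Cfsg.Agent.Zsigmondy

open Polynomial

theorem exists_eq_pow_mul_orderOf {r a n : ℕ} (hr : r.Prime) (hn : 1 < n)
    (h : (r : ℤ) ∣ (cyclotomic n ℤ).eval (a : ℤ)) :
    ¬ r ∣ a ∧ ∃ j : ℕ, n = r ^ j * orderOf (a : ZMod r) := by
  haveI := Fact.mk hr
  have hroot : (cyclotomic n (ZMod r)).IsRoot (a : ZMod r) := by
    rw [← ZMod.intCast_zmod_eq_zero_iff_dvd] at h
    rw [IsRoot.def, ← map_cyclotomic n (Int.castRingHom (ZMod r)), eval_map,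
      show (a : ZMod r) = Int.castRingHom (ZMod r) (a : ℤ) by simp, eval₂_at_apply]
    exact h
  have ha : ¬ r ∣ a := by
    intro hd
    rw [(ZMod.natCast_eq_zero_iff a r).2 hd, IsRoot.def, ← coeff_zero_eq_eval_zero,
      cyclotomic_coeff_zero _ hn] at hroot
    exact one_ne_zero hroot
  refine ⟨ha, ?_⟩
  obtain ⟨k, m, hm, rfl⟩ := Nat.exists_eq_pow_mul_and_not_dvd (by omega : n ≠ 0) r hr.ne_one
  haveI : NeZero (m : ZMod r) := ⟨by rwa [Ne, ZMod.natCast_eq_zero_iff]⟩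
  rw [isRoot_cyclotomic_prime_pow_mul_iff_of_charP, IsPrimitiveRoot.iff_orderOf] at hroot
  exact ⟨k, by rw [hroot]⟩

theorem primitive_of_orderOf_eq {r a n : ℕ} (hr : r.Prime) (ha : ¬ r ∣ a)
    (h : orderOf (a : ZMod r) = n) :
    r ∣ a ^ n - 1 ∧ ∀ k : ℕ, 0 < k → k < n → ¬ r ∣ a ^ k - 1 := by
  haveI := Fact.mk hr
  have hone : ∀ k : ℕ, r ∣ a ^ k - 1 ↔ (a : ZMod r) ^ k = 1 := fun k => by
    have hpos : 1 ≤ a ^ k := Nat.one_le_pow _ _ (Nat.pos_of_ne_zero fun h0 => ha (h0 ▸ dvd_zero r))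
    rw [← ZMod.natCast_eq_zero_iff, Nat.cast_sub hpos, Nat.cast_pow, Nat.cast_one, sub_eq_zero]
  refine ⟨(hone n).2 (by rw [← h]; exact pow_orderOf_eq_one _), fun k hk hkn hd => ?_⟩
  have := orderOf_le_of_pow_eq_one hk ((hone k).1 hd)
  omega

theorem imprimitive {r a n : ℕ} (hr : r.Prime) (hn : 1 < n)
    (h : (r : ℤ) ∣ (cyclotomic n ℤ).eval (a : ℤ)) (hne : orderOf (a : ZMod r) ≠ n) :
    ∃ j, 0 < j ∧ n = r ^ j * orderOf (a : ZMod r) ∧ orderOf (a : ZMod r) ∣ r - 1 ∧ ¬ r ∣ a := by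
  haveI := Fact.mk hr
  obtain ⟨ha, j, hj⟩ := exists_eq_pow_mul_orderOf hr hn h
  refine ⟨j, Nat.pos_of_ne_zero fun h0 => hne ?_, hj,
    ZMod.orderOf_dvd_card_sub_one (by rwa [Ne, ZMod.natCast_eq_zero_iff]), ha⟩
  rw [h0, pow_zero, one_mul] at hj
  exact hj.symm

theorem prime_le_of_imprimitive {r s a n : ℕ} (hr : r.Prime) (hn : 1 < n)
    (h : (r : ℤ) ∣ (cyclotomic n ℤ).eval (a : ℤ)) (hne : orderOf (a : ZMod r) ≠ n)
    (hs : s.Prime) (hsn : s ∣ n) : s ≤ r := by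
  obtain ⟨j, -, hj, hd, -⟩ := imprimitive hr hn h hne
  rw [hj] at hsn
  rcases hs.dvd_mul.1 hsn with h1 | h1
  · exact ((Nat.prime_dvd_prime_iff_eq hs hr).1 (hs.dvd_of_dvd_pow h1)).le
  · have := Nat.le_of_dvd (by have := hr.two_le; omega) (h1.trans hd)
    omega

theorem cyclotomic_dvd_geomSum {n m r : ℕ} (hr : 1 < r) (hn : n = m * r) (hm : 0 < m) (a : ℤ)
    (ha : a ^ m ≠ 1) :
    (cyclotomic n ℤ).eval a ∣ ∑ i ∈ Finset.range r, (a ^ m) ^ i := by
  have hd : m ∈ n.properDivisors := Nat.mem_properDivisors.2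
    ⟨⟨r, hn⟩, by rw [hn]; exact lt_mul_of_one_lt_right hm hr⟩
  have h := eval_dvd (x := a) (X_pow_sub_one_mul_cyclotomic_dvd_X_pow_sub_one_of_dvd ℤ hd)
  simp only [eval_mul, eval_sub, eval_pow, eval_X, eval_one] at h
  rw [hn, pow_mul, ← geom_sum_mul (a ^ m) r, mul_comm (∑ i ∈ _, _)] at h
  rw [hn]
  exact (mul_dvd_mul_iff_left (sub_ne_zero.2 ha)).1 h

theorem not_sq_dvd_cyclotomic {r a n : ℕ} (hr : r.Prime) (hn : 2 < n) (ha : 1 < a)
    (h : (r : ℤ) ∣ (cyclotomic n ℤ).eval (a : ℤ)) (hne : orderOf (a : ZMod r) ≠ n) :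
    ¬ (r : ℤ) ^ 2 ∣ (cyclotomic n ℤ).eval (a : ℤ) := by
  haveI := Fact.mk hr
  obtain ⟨j, hj0, hj, hd, hra⟩ := imprimitive hr (by omega) h hne
  obtain ⟨i, rfl⟩ : ∃ i, j = i + 1 := ⟨j - 1, by omega⟩
  set e := orderOf (a : ZMod r) with he
  set m := r ^ i * e with hm
  have hnm : n = m * r := by rw [hj, hm, pow_succ]; ring
  have hm0 : 0 < m := Nat.pos_of_ne_zero fun h0 => by rw [h0, zero_mul] at hnm; omega
  have hx1 : (a : ℤ) ^ m ≠ 1 := by exact_mod_cast (Nat.one_lt_pow hm0.ne' ha).ne'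
  intro hsq
  have hS := hsq.trans (cyclotomic_dvd_geomSum hr.one_lt hnm hm0 (a : ℤ) hx1)
  rcases hr.eq_two_or_odd' with h2 | hodd
  · subst h2
    have he1 : e = 1 := Nat.dvd_one.1 (by simpa using hd)
    obtain ⟨l, hl⟩ : ∃ l, m = 2 * l := by
      rw [hm, he1, mul_one]
      rcases i with - | i
      · rw [hj, he1] at hn; norm_num at hn
      · exact ⟨2 ^ i, by rw [pow_succ]; ring⟩
    have hao : Odd (a : ℤ) := by
      rw [Int.odd_coe_nat, Nat.odd_iff]; omega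
    obtain ⟨t, ht⟩ := hao.pow (n := l)
    rw [Finset.sum_range_succ, Finset.sum_range_one, pow_zero, pow_one, hl, pow_mul'] at hS
    rw [ht] at hS
    obtain ⟨c, hc⟩ := hS
    push_cast at hc
    have : (4 : ℤ) ∣ 2 := ⟨c - t * t - t, by linear_combination hc⟩
    omega
  · obtain ⟨b, hb⟩ : (r : ℤ) ∣ (a : ℤ) ^ m - 1 := by
      rw [← ZMod.intCast_zmod_eq_zero_iff_dvd]
      push_cast
      rw [sub_eq_zero, hm, mul_comm, pow_mul, he, pow_orderOf_eq_one, one_pow]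
    have h1 := odd_sq_dvd_geom_sum₂_sub (1 : ℤ) b hodd
    have e1 : (a : ℤ) ^ m = 1 + r * b := by linarith
    simp only [one_pow, mul_one] at h1
    rw [← e1] at h1
    have h2 : (r : ℤ) ^ 2 ∣ (r : ℤ) := by
      have := dvd_sub hS h1
      simpa using this
    have h3 : r ^ 2 ∣ r := by exact_mod_cast h2
    have h4 := Nat.le_of_dvd hr.pos h3
    have h5 := hr.two_le
    have h6 : r * 2 ≤ r ^ 2 := by rw [pow_two]; exact Nat.mul_le_mul_left r h5
    omega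

/-- Without a primitive prime divisor, `Φ_n(a)` is the largest prime divisor of `n`. -/
theorem natAbs_cyclotomic_eq_of_no_primitive {a n : ℕ} (ha : 1 < a) (hn : 2 < n)
    (hno : ∀ r : ℕ, r.Prime → (r : ℤ) ∣ (cyclotomic n ℤ).eval (a : ℤ) →
      orderOf (a : ZMod r) ≠ n) :
    ∃ r : ℕ, r.Prime ∧ r ∣ n ∧ (∀ s : ℕ, s.Prime → s ∣ n → s ≤ r) ∧
      (r : ℤ) ∣ (cyclotomic n ℤ).eval (a : ℤ) ∧ ((cyclotomic n ℤ).eval (a : ℤ)).natAbs = r := by
  set N := ((cyclotomic n ℤ).eval (a : ℤ)).natAbs with hN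
  have hN1 : 1 < N := lt_of_le_of_lt (by omega) (sub_one_lt_natAbs_cyclotomic_eval (by omega) ha.ne')
  obtain ⟨r, hr, hrN⟩ := Nat.exists_prime_and_dvd hN1.ne'
  have hdvd : ∀ {s : ℕ}, s ∣ N → (s : ℤ) ∣ (cyclotomic n ℤ).eval (a : ℤ) := fun h =>
    Int.natCast_dvd.2 h
  have hmem : ∀ {s : ℕ}, s.Prime → s ∣ N → s ∣ n := fun {s} hs h => by
    obtain ⟨j, hj0, hj, -⟩ := imprimitive hs (by omega) (hdvd h) (hno s hs (hdvd h))
    rw [hj]
    exact (dvd_pow_self s hj0.ne').mul_right _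
  have hmax : ∀ {s t : ℕ}, s.Prime → s ∣ N → t.Prime → t ∣ n → t ≤ s := fun hs h ht htn =>
    prime_le_of_imprimitive hs (by omega) (hdvd h) (hno _ hs (hdvd h)) ht htn
  have huniq : ∀ s : ℕ, s.Prime → s ∣ N → s = r := fun s hs h =>
    le_antisymm (hmax hr hrN hs (hmem hs h)) (hmax hs h hr (hmem hr hrN))
  refine ⟨r, hr, hmem hr hrN, fun s hs => hmax hr hrN hs, hdvd hrN, ?_⟩
  obtain ⟨c, hc⟩ := id hrN
  rcases eq_or_ne c 1 with h1 | h1
  · rw [hc, h1, mul_one]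
  exfalso
  obtain ⟨s, hs, hsc⟩ := Nat.exists_prime_and_dvd h1
  have := huniq s hs (hc ▸ hsc.mul_left r)
  subst this
  refine not_sq_dvd_cyclotomic hr hn ha (hdvd hrN) (hno s hr (hdvd hrN)) ?_
  have h2 : s ^ 2 ∣ N := by rw [hc, pow_two]; exact Nat.mul_dvd_mul_left s hsc
  exact_mod_cast Int.natCast_dvd.2 h2

theorem two_pow_sub_one_gt {r : ℕ} (hr : 4 ≤ r) : 3 * r + 1 < 2 ^ r := by
  induction r, hr using Nat.le_induction with
  | base => norm_num
  | succ r hr ih => rw [pow_succ]; omega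

/-- Zsigmondy's theorem. -/
theorem exists_primitive {a n : ℕ} (ha : 1 < a) (hn : 1 < n) (h6 : ¬ (a = 2 ∧ n = 6))
    (h2 : ¬ (n = 2 ∧ ∃ m : ℕ, a + 1 = 2 ^ m)) :
    ∃ r : ℕ, r.Prime ∧ r ∣ a ^ n - 1 ∧ ∀ k : ℕ, 0 < k → k < n → ¬ r ∣ a ^ k - 1 := by
  rcases Nat.lt_or_ge 2 n with hn2 | hn2
  swap
  · obtain rfl : n = 2 := by omega
    obtain ⟨r, hr, hra, hr2⟩ : ∃ r : ℕ, r.Prime ∧ r ∣ a + 1 ∧ r ≠ 2 := by
      by_contra hcon
      push Not at hcon
      exact h2 ⟨rfl, _, Nat.eq_prime_pow_of_unique_prime_dvd (p := 2) (by omega : a + 1 ≠ 0)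
        (fun {q} hq hd => hcon q hq hd)⟩
    refine ⟨r, hr, ?_, fun k hk hk2 hd => hr2 ?_⟩
    · rw [show a ^ 2 - 1 = (a + 1) * (a - 1) by simpa using Nat.sq_sub_sq a 1]
      exact hra.mul_right _
    · obtain rfl : k = 1 := by omega
      rw [pow_one] at hd
      have h3 := Nat.dvd_sub hra hd
      rw [show a + 1 - (a - 1) = 2 by omega] at h3
      exact (Nat.prime_dvd_prime_iff_eq hr Nat.prime_two).1 h3
  by_cases hno : ∀ r : ℕ, r.Prime → (r : ℤ) ∣ (cyclotomic n ℤ).eval (a : ℤ) →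
      orderOf (a : ZMod r) ≠ n
  swap
  · push Not at hno
    obtain ⟨r, hr, hd, ho⟩ := hno
    exact ⟨r, hr, primitive_of_orderOf_eq hr (exists_eq_pow_mul_orderOf hr hn hd).1 ho⟩
  exfalso
  obtain ⟨r, hr, hrn, -, hrd, hN⟩ := natAbs_cyclotomic_eq_of_no_primitive ha hn2 hno
  haveI := Fact.mk hr
  have hlow := sub_one_pow_totient_lt_natAbs_cyclotomic_eval hn (q := a) ha.ne'
  rw [hN] at hlow
  have htot : r - 1 ≤ n.totient := by
    rw [← Nat.totient_prime hr]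
    exact Nat.le_of_dvd (Nat.totient_pos.2 (by omega)) (Nat.totient_dvd_of_dvd hrn)
  obtain rfl : a = 2 := by
    by_contra hne
    have h1 : (2 : ℕ) ^ (r - 1) ≤ (a - 1) ^ n.totient :=
      (Nat.pow_le_pow_right (by norm_num) htot).trans (Nat.pow_le_pow_left (by omega) _)
    have h2' := Nat.lt_two_pow_self (n := r - 1)
    omega
  push_cast at hN
  obtain ⟨j, hj0, hj, hd, hra⟩ := imprimitive hr hn hrd (hno r hr hrd)
  set e := orderOf ((2 : ℕ) : ZMod r) with he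
  have hr3 : 3 ≤ r := by
    rcases eq_or_ne r 2 with rfl | h
    · exact absurd (dvd_refl 2) hra
    · have := hr.two_le; omega
  have he2 : 2 ≤ e := by
    by_contra hlt
    have he0 : 0 < e := Nat.pos_of_ne_zero fun h0 => by rw [h0, mul_zero] at hj; omega
    have h1 : ((2 : ℕ) : ZMod r) = 1 := orderOf_eq_one_iff.1 (by omega : e = 1)
    have h2' : ((1 : ℕ) : ZMod r) = 0 := by
      have : ((2 : ℕ) : ZMod r) - 1 = 0 := by rw [h1, sub_self]
      push_cast at this ⊢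
      linear_combination this
    exact hr.ne_one (Nat.dvd_one.1 ((ZMod.natCast_eq_zero_iff _ _).1 h2'))
  have her : ¬ r ∣ e := fun h => by
    have := Nat.le_of_dvd (by omega) (h.trans hd)
    omega
  have hb : (2 : ℕ) ^ r ≠ 1 := (Nat.one_lt_pow hr.ne_zero (by norm_num)).ne'
  obtain ⟨i, rfl⟩ : ∃ i, j = i + 1 := ⟨j - 1, by omega⟩
  have hpos2 : 2 ^ r - 1 ≥ 1 := by have := Nat.lt_two_pow_self (n := r); omega
  rcases i with - | i
  · -- `n = r * e`
    rw [zero_add, pow_one] at hj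
    have hexp := congrArg (eval (2 : ℤ)) (cyclotomic_expand_eq_cyclotomic_mul hr her ℤ)
    rw [expand_eval, eval_mul, mul_comm e r, ← hj] at hexp
    have hmul := congrArg Int.natAbs hexp
    rw [Int.natAbs_mul, hN] at hmul
    have hL : (2 ^ r - 1) ^ e.totient ≤ ((cyclotomic e ℤ).eval ((2 : ℤ) ^ r)).natAbs := by
      have := (sub_one_pow_totient_lt_natAbs_cyclotomic_eval (by omega : 1 < e) hb).le
      exact_mod_cast this
    have hU : ((cyclotomic e ℤ).eval (2 : ℤ)).natAbs ≤ 3 ^ e.totient := by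
      have h1 := cyclotomic_eval_le_add_one_pow_totient (q := (2 : ℝ)) (by norm_num) e
      have h2' : (cyclotomic e ℝ).eval (2 : ℝ) = (((cyclotomic e ℤ).eval (2 : ℤ)).natAbs : ℝ) := by
        have h4 := cyclotomic.eval_apply (2 : ℤ) e (algebraMap ℤ ℝ)
        simp only [eq_intCast, Int.cast_ofNat] at h4
        rw [h4, Nat.cast_natAbs, abs_of_nonneg]
        exact cyclotomic_nonneg e (by norm_num)
      rw [h2'] at h1
      rw [show (2 : ℝ) + 1 = ((3 : ℕ) : ℝ) by norm_num, ← Nat.cast_pow] at h1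
      exact Nat.cast_le.1 h1
    have hk : (2 ^ r - 1) ^ e.totient ≤ (3 * r) ^ e.totient := by
      refine hL.trans (hmul.trans_le ?_)
      rw [mul_pow, mul_comm r]
      exact Nat.mul_le_mul hU (Nat.le_self_pow (Nat.totient_pos.2 (by omega)).ne' r)
    have hle : 2 ^ r - 1 ≤ 3 * r := (Nat.pow_le_pow_iff_left (Nat.totient_pos.2 (by omega)).ne').1 hk
    have hr4 : r < 4 := by
      by_contra h4
      have := two_pow_sub_one_gt (Nat.le_of_not_lt h4)
      omega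
    have : r = 3 := by omega
    subst this
    have : e = 2 := by
      have := Nat.le_of_dvd (by norm_num) hd
      omega
    exact h6 ⟨rfl, by omega⟩
  · -- `r ^ 2 ∣ n`
    have hdiv : r ∣ r ^ (i + 1) * e := (dvd_pow_self r (by omega)).mul_right e
    have hexp := congrArg (eval (2 : ℤ)) (cyclotomic_expand_eq_cyclotomic hr hdiv ℤ)
    rw [expand_eval, show r ^ (i + 1) * e * r = n by rw [hj, pow_succ r (i + 1)]; ring] at hexp
    have hm1 : 1 < r ^ (i + 1) * e :=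
      lt_of_lt_of_le he2 (Nat.le_mul_of_pos_left e (pow_pos hr.pos _))
    have h1 := sub_one_pow_totient_lt_natAbs_cyclotomic_eval hm1 hb
    push_cast at h1
    rw [hexp, hN] at h1
    have h2' := Nat.le_self_pow (Nat.totient_pos.2 (by omega : 0 < r ^ (i + 1) * e)).ne' (2 ^ r - 1)
    have := Nat.lt_two_pow_self (n := r)
    omega

end Cfsg.Agent.Zsigmondy
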