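/-
Large primitive prime divisors (Feit).

* `pow_totient_le_four_mul_cyclotomic`: `q ^ φ n ≤ 4 Φ_n(q)`
* `le_two_mul_totient_sq`: `n ≤ 2 (φ n) ^ 2`
* `bound_of_no_large`: without a large primitive prime divisor `|Φ_n(q)| ≤ (n + 1) n`
* `exists_large`: Feit's theorem on large primitive prime divisors
-/
import Cfsg.Agent.Lib.Zsigmondy.Basic

set_option autoImplicit false

namespace Cfsg.Agent.Zsigmondy

open Polynomial ArithmeticFunction
open scoped ArithmeticFunction.Moebius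

theorem le_two_mul_totient_sq (n : ℕ) :
    n ≤ 2 * n.totient ^ 2 ∧ (Odd n → n ≤ n.totient ^ 2) := by
  induction n using Nat.recOnPosPrimePosCoprime with
  | prime_pow p k hp hk =>
    obtain ⟨k, rfl⟩ : ∃ i, k = i + 1 := ⟨k - 1, by omega⟩
    rw [Nat.totient_prime_pow_succ hp, mul_pow, ← pow_mul]
    have hk2 : p ^ k ≤ p ^ (k * 2) := Nat.pow_le_pow_right hp.pos (by omega)
    rcases hp.eq_two_or_odd' with rfl | hodd
    · refine ⟨?_, fun h => absurd h (Nat.not_odd_iff_even.2 (even_two.pow_of_ne_zero (by omega)))⟩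
      rw [pow_succ]; norm_num; linarith
    · have h3 : 3 ≤ p := by
        rcases hp.two_le.lt_or_eq with h | h
        · omega
        · subst h; exact absurd hodd (by decide)
      have : p ^ (k + 1) ≤ p ^ (k * 2) * (p - 1) ^ 2 := by
        rw [pow_succ]
        refine Nat.mul_le_mul hk2 ?_
        obtain ⟨t, rfl⟩ : ∃ t, p = t + 3 := ⟨p - 3, by omega⟩
        simp only [show t + 3 - 1 = t + 2 by omega]
        nlinarith
      exact ⟨this.trans (Nat.le_mul_of_pos_left _ (by norm_num)), fun _ => this⟩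
  | zero => simp
  | one => simp
  | coprime a b _ _ hab iha ihb =>
    rw [Nat.totient_mul hab, mul_pow]
    refine ⟨?_, fun h => Nat.mul_le_mul (iha.2 (Nat.Odd.of_mul_left h)) (ihb.2 (Nat.Odd.of_mul_right h))⟩
    rcases Nat.even_or_odd a with ha | ha
    · have hb : Odd b := by
        rw [← Nat.not_even_iff_odd]
        intro hb
        exact absurd (Nat.dvd_gcd ha.two_dvd hb.two_dvd) (by rw [hab]; norm_num)
      calc a * b ≤ 2 * a.totient ^ 2 * b.totient ^ 2 := Nat.mul_le_mul iha.1 (ihb.2 hb)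
        _ = _ := by ring
    · calc a * b ≤ a.totient ^ 2 * (2 * b.totient ^ 2) := Nat.mul_le_mul (iha.2 ha) ihb.1
        _ = _ := by ring

theorem prod_one_sub_inv_two_pow (n : ℕ) :
    (1 : ℚ) / 4 + (1 / 2) ^ (n + 2) ≤ ∏ i ∈ Finset.range (n + 1), (1 - (1 / 2) ^ (i + 1)) := by
  induction n with
  | zero => norm_num
  | succ n ih =>
    rw [Finset.prod_range_succ]
    have hpos : (0 : ℚ) ≤ 1 - (1 / 2) ^ (n + 1 + 1) := by
      have : ((1 : ℚ) / 2) ^ (n + 1 + 1) ≤ 1 := pow_le_one₀ (by norm_num) (by norm_num)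
      linarith
    refine le_trans ?_ (mul_le_mul_of_nonneg_right ih hpos)
    set x : ℚ := (1 / 2) ^ n
    have hx : x ≤ 1 := pow_le_one₀ (by norm_num) (by norm_num)
    have hx0 : 0 ≤ x := by positivity
    simp only [pow_add]
    norm_num
    nlinarith [mul_le_mul_of_nonneg_left hx hx0]

/-- `q ^ φ(n) ≤ 4 Φ_n(q)`. -/
theorem pow_totient_le_four_mul_cyclotomic {q n : ℕ} (hq : 2 ≤ q) (hn : 0 < n) :
    q ^ n.totient ≤ 4 * ((cyclotomic n ℤ).eval (q : ℤ)).natAbs := by
  have hq1 : (1 : ℚ) < q := by exact_mod_cast hq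
  have hq0 : (0 : ℚ) < q := by linarith
  let h : ℕ → ℚ := fun d => ((q : ℚ) ^ d - 1) / (q : ℚ) ^ d
  let F : ℕ → ℚ := fun d => (cyclotomic d ℚ).eval (q : ℚ) / (q : ℚ) ^ d.totient
  have hF : ∀ d : ℕ, 0 < d → F d ≠ 0 := fun d _ => (div_pos (cyclotomic_pos' d hq1) (pow_pos hq0 _)).ne'
  have hh : ∀ d : ℕ, 0 < d → h d ≠ 0 := fun d hd =>
    (div_pos (sub_pos.2 (one_lt_pow₀ hq1 hd.ne')) (pow_pos hq0 _)).ne'
  have hprod : ∀ m > 0, ∏ d ∈ m.divisors, F d = h m := fun m hm => by
    simp only [F, h]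
    rw [Finset.prod_div_distrib, Finset.prod_pow_eq_pow_sum, Nat.sum_totient, ← eval_prod,
      prod_cyclotomic_eq_X_pow_sub_one hm, eval_sub, eval_pow, eval_X, eval_one]
  have hmain := (prod_eq_iff_prod_pow_moebius_eq_of_nonzero hF hh).1 hprod n hn
  have hb : ∀ d : ℕ, 1 ≤ d → 1 - (1 / 2 : ℚ) ^ d ≤ h d ∧ h d ≤ 1 ∧ 0 < h d := fun d hd => by
    have e : h d = 1 - (1 / (q : ℚ)) ^ d := by
      simp only [h]; rw [div_pow, one_pow]; field_simp
    have h1 : (1 / (q : ℚ)) ^ d ≤ (1 / 2) ^ d := by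
      refine pow_le_pow_left₀ (by positivity) ?_ _
      rw [div_le_div_iff₀ hq0 (by norm_num)]
      have : (2 : ℚ) ≤ q := by exact_mod_cast hq
      linarith
    have h2 : (1 / 2 : ℚ) ^ d < 1 := pow_lt_one₀ (by norm_num) (by norm_num) (by omega)
    have h3 : (0 : ℚ) ≤ (1 / (q : ℚ)) ^ d := by positivity
    rw [e]; exact ⟨by linarith, by linarith, by linarith⟩
  have hlow : (1 : ℚ) / 4 ≤ F n := by
    rw [← hmain]
    have h1 : (1 : ℚ) / 4 ≤ ∏ i ∈ Finset.range n, (1 - (1 / 2) ^ (i + 1)) := by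
      obtain ⟨m, rfl⟩ : ∃ m, n = m + 1 := ⟨n - 1, by omega⟩
      have := prod_one_sub_inv_two_pow m
      have : (0 : ℚ) ≤ (1 / 2) ^ (m + 2) := by positivity
      linarith
    have h2 : ∏ i ∈ Finset.range n, (1 - (1 / 2 : ℚ) ^ (i + 1)) ≤ ∏ d ∈ n.divisors, h d := by
      rw [← Nat.image_snd_divisorsAntidiagonal (n := n)]
      calc ∏ i ∈ Finset.range n, (1 - (1 / 2 : ℚ) ^ (i + 1))
          = ∏ d ∈ Finset.Icc 1 n, (1 - (1 / 2 : ℚ) ^ d) := by
            rw [← Finset.Ico_add_one_right_eq_Icc, Finset.prod_Ico_eq_prod_range]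
            simp [add_comm]
        _ ≤ ∏ d ∈ n.divisorsAntidiagonal.image Prod.snd, (1 - (1 / 2 : ℚ) ^ d) := by
            rw [Nat.image_snd_divisorsAntidiagonal]
            have hsub : n.divisors ⊆ Finset.Icc 1 n := fun d hd =>
              Finset.mem_Icc.2 ⟨Nat.pos_of_mem_divisors hd, Nat.divisor_le hd⟩
            have hle1 : ∀ d : ℕ, ((1 : ℚ) / 2) ^ d ≤ 1 := fun d => pow_le_one₀ (by norm_num) (by norm_num)
            rw [← Finset.prod_sdiff hsub]
            refine mul_le_of_le_one_left (Finset.prod_nonneg fun d _ => by linarith [hle1 d])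
              (Finset.prod_le_one (fun d _ => by linarith [hle1 d]) fun d _ => ?_)
            have : (0 : ℚ) ≤ (1 / 2) ^ d := by positivity
            linarith
        _ ≤ _ := by
            refine Finset.prod_le_prod (fun d _ => ?_) fun d hd => ?_
            · have : ((1 : ℚ) / 2) ^ d ≤ 1 := pow_le_one₀ (by norm_num) (by norm_num)
              linarith
            · rw [Nat.image_snd_divisorsAntidiagonal] at hd
              exact (hb d (Nat.pos_of_mem_divisors hd)).1
    refine (h1.trans h2).trans ?_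
    rw [← Nat.map_div_left_divisors, Finset.prod_map]
    have key : ∀ d ∈ n.divisors, h d ≤ h d ^ (μ (n / d)) := fun d hd => by
      obtain ⟨-, hle, hpos⟩ := hb d (Nat.pos_of_mem_divisors hd)
      rcases moebius_eq_or (n / d) with e | e | e <;> rw [e]
      · simpa using hle
      · simp
      · rw [zpow_neg_one]; exact hle.trans (one_le_inv_iff₀.2 ⟨hpos, hle⟩)
    exact Finset.prod_le_prod (fun d hd => (hb d (Nat.pos_of_mem_divisors hd)).2.2.le) key
  have hQ : (q : ℚ) ^ n.totient ≤ 4 * (cyclotomic n ℚ).eval (q : ℚ) := by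
    simp only [F] at hlow
    rw [le_div_iff₀ (pow_pos hq0 _)] at hlow
    linarith
  have hcast : (cyclotomic n ℚ).eval (q : ℚ) = (((cyclotomic n ℤ).eval (q : ℤ)).natAbs : ℚ) := by
    have h4 := cyclotomic.eval_apply (q : ℤ) n (algebraMap ℤ ℚ)
    simp only [eq_intCast, Int.cast_natCast] at h4
    rw [h4, Nat.cast_natAbs, abs_of_nonneg]
    exact (cyclotomic_pos' n (by exact_mod_cast hq)).le
  rw [hcast] at hQ
  exact_mod_cast hQ

/-- `p` is a large primitive prime divisor of `q ^ n - 1`. -/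
def IsLarge (q n p : ℕ) : Prop :=
  p ∣ q ^ n - 1 ∧ (∀ i : ℕ, i < n → 1 ≤ i → ¬ p ∣ q ^ i - 1) ∧ (n + 1 < p ∨ p ^ 2 ∣ q ^ n - 1)

instance (q n p : ℕ) : Decidable (IsLarge q n p) := inferInstanceAs (Decidable (_ ∧ _ ∧ _))

theorem bound_of_no_large {q n : ℕ} (hq : 2 ≤ q) (hn : 2 < n)
    (hno : ∀ p : ℕ, p.Prime → ¬ IsLarge q n p) :
    ((cyclotomic n ℤ).eval (q : ℤ)).natAbs ≤ (n + 1) * n := by
  set N := ((cyclotomic n ℤ).eval (q : ℤ)).natAbs with hN
  have hN1 : 1 < N := lt_of_le_of_lt (by omega) (sub_one_lt_natAbs_cyclotomic_eval (by omega) (by omega : q ≠ 1))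
  have hdvd : ∀ {s : ℕ}, s ∣ N → (s : ℤ) ∣ (cyclotomic n ℤ).eval (q : ℤ) := fun h => Int.natCast_dvd.2 h
  have hNd : N ∣ q ^ n - 1 := by
    have h := eval_dvd (x := (q : ℤ)) (cyclotomic.dvd_X_pow_sub_one n ℤ)
    simp only [eval_sub, eval_pow, eval_X, eval_one] at h
    have h' := Int.natAbs_dvd_natAbs.2 h
    have hpos : 1 ≤ q ^ n := Nat.one_le_pow _ _ (by omega)
    rwa [show (q : ℤ) ^ n - 1 = ((q ^ n - 1 : ℕ) : ℤ) by push_cast [Nat.cast_sub hpos]; rfl, Int.natAbs_natCast] at h'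
  have hprim : ∀ p : ℕ, p.Prime → p ∣ N → orderOf (q : ZMod p) = n → p = n + 1 ∧ ¬ p ^ 2 ∣ N := by
    intro p hp hpN ho
    haveI := Fact.mk hp
    obtain ⟨hpq, -⟩ := exists_eq_pow_mul_orderOf hp (by omega) (hdvd hpN)
    obtain ⟨h1, h2⟩ := primitive_of_orderOf_eq hp hpq ho
    have hnl := hno p hp
    simp only [IsLarge, not_and_or, not_or] at hnl
    rcases hnl with h | h | h
    · exact absurd h1 h
    · exact absurd (fun i hi hi1 => h2 i hi1 hi) h
    · have hd : n ∣ p - 1 := ho ▸ ZMod.orderOf_dvd_card_sub_one (by rwa [Ne, ZMod.natCast_eq_zero_iff])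
      have := hp.two_le
      have := Nat.le_of_dvd (by omega) hd
      exact ⟨by omega, fun h' => h.2 (h'.trans hNd)⟩
  let r₀ := Finset.sup n.primeFactors id
  have himp : ∀ p : ℕ, p.Prime → p ∣ N → orderOf (q : ZMod p) ≠ n → p = r₀ := by
    intro p hp hpN ho
    obtain ⟨j, hj0, hj, -⟩ := imprimitive hp (by omega) (hdvd hpN) ho
    refine le_antisymm (Finset.le_sup (f := id) (Nat.mem_primeFactors.2
      ⟨hp, by rw [hj]; exact (dvd_pow_self p hj0.ne').mul_right _, by omega⟩)) (Finset.sup_le fun s hs => ?_)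
    obtain ⟨hs, hsn, -⟩ := Nat.mem_primeFactors.1 hs
    exact prime_le_of_imprimitive hp (by omega) (hdvd hpN) ho hs hsn
  have hsq : Squarefree N := by
    rw [Nat.squarefree_iff_prime_squarefree]
    intro p hp hpp
    have hpN : p ∣ N := (dvd_mul_left p p).trans hpp
    rw [← pow_two] at hpp
    by_cases ho : orderOf (q : ZMod p) = n
    · exact (hprim p hp hpN ho).2 hpp
    · refine not_sq_dvd_cyclotomic hp hn hq (hdvd hpN) ho ?_
      exact_mod_cast hdvd hpp
  have hsub : N.primeFactors ⊆ {n + 1, r₀} := fun p hp => by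
    obtain ⟨hp, hpN, -⟩ := Nat.mem_primeFactors.1 hp
    by_cases ho : orderOf (q : ZMod p) = n
    · simp [(hprim p hp hpN ho).1]
    · simp [himp p hp hpN ho]
  have hr0 : r₀ ≤ n := Finset.sup_le fun s hs => Nat.le_of_mem_primeFactors hs
  have hr1 : 1 ≤ r₀ := by
    obtain ⟨s, hs, hsn⟩ := Nat.exists_prime_and_dvd (by omega : n ≠ 1)
    exact hs.pos.trans_le (Finset.le_sup (f := id) (Nat.mem_primeFactors.2 ⟨hs, hsn, by omega⟩))
  rw [← Nat.prod_primeFactors_of_squarefree hsq]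
  refine (Finset.prod_le_prod_of_subset_of_one_le' hsub fun i hi _ => ?_).trans ?_
  · simp only [Finset.mem_insert, Finset.mem_singleton] at hi
    omega
  · rw [Finset.prod_pair (by omega)]
    exact Nat.mul_le_mul_left _ hr0

/-- Small primes, enough to bound the totient of a number below 883 from below. -/
def coprimeCandidates : List ℕ :=
  [2, 3, 5, 7, 11, 13, 17, 19, 23, 29, 31, 37, 41, 43, 47, 53, 59, 61, 67, 71, 73, 79, 83, 89, 97, 101]

theorem totient_check_small : ∀ n < 150, 43 ≤ n → 4 * (n * (n + 1)) < 2 ^ n.totient := by decide +kernel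

theorem candidates_check : ∀ n < 883, 150 ≤ n → 22 ≤ (coprimeCandidates.filter fun p => n.Coprime p).length := by
  decide +kernel

theorem large_totient_check :
    ∀ n < 883, 43 ≤ n → 4 * (n * (n + 1)) < 2 ^ n.totient := by
  intro n hn h43
  rcases Nat.lt_or_ge n 150 with h | h
  · exact totient_check_small n h h43
  have h22 : 22 ≤ n.totient := by
    refine (candidates_check n hn h).trans ?_
    rw [Nat.totient_eq_card_coprime, ← List.toFinset_card_of_nodup ((by decide : coprimeCandidates.Nodup).filter _)]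
    refine Finset.card_le_card fun p hp => ?_
    obtain ⟨hmem, hc⟩ := List.mem_filter.mp (List.mem_toFinset.mp hp)
    have hp : p ≤ 101 := (by decide : ∀ p ∈ coprimeCandidates, p ≤ 101) p hmem
    exact Finset.mem_filter.mpr ⟨Finset.mem_range.mpr (by omega), of_decide_eq_true hc⟩
  have h2 : 2 ^ 22 ≤ 2 ^ n.totient := Nat.pow_le_pow_right (by norm_num) h22
  have h3 : n * (n + 1) ≤ 882 * 883 := Nat.mul_le_mul (by omega) (by omega)
  omega

theorem lt_forty_three {n : ℕ} (h : 2 ^ n.totient ≤ 4 * (n * (n + 1))) : n < 43 := by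
  by_contra hn
  have h2 := (le_two_mul_totient_sq n).1
  suffices n.totient ≤ 21 by
    have : n.totient ^ 2 ≤ 21 ^ 2 := Nat.pow_le_pow_left this 2
    exact absurd (large_totient_check n (by omega) (by omega)) (not_lt.2 h)
  by_contra hf
  have key : ∀ f, 22 ≤ f → 4 * (2 * f ^ 2 * (2 * f ^ 2 + 1)) < 2 ^ f := by
    intro f hf
    induction f, hf using Nat.le_induction with
    | base => norm_num
    | succ f hf ih =>
      rw [pow_succ 2 f]
      have : (f + 1) ^ 4 ≤ 2 * f ^ 4 := by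
        nlinarith [Nat.mul_le_mul_left (f ^ 3) hf, Nat.mul_le_mul_left (f ^ 2) hf, Nat.mul_le_mul_left f hf]
      nlinarith [pow_le_pow_left₀ (Nat.zero_le 22) hf 2]
  have := key n.totient (by omega)
  have hmul : n * (n + 1) ≤ 2 * n.totient ^ 2 * (2 * n.totient ^ 2 + 1) := Nat.mul_le_mul h2 (by omega)
  omega

/-- Witnesses for the small cases. -/
def smallWitness : List (ℕ × ℕ × ℕ) :=
  [(3, 2, 7), (3, 3, 13), (3, 4, 7), (3, 5, 31), (3, 6, 43), (4, 4, 17), (4, 5, 13), (4, 6, 37), (4, 7, 5),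
    (4, 8, 13), (5, 2, 31), (5, 3, 11), (6, 4, 13), (6, 6, 31), (6, 7, 43), (6, 8, 19), (6, 9, 73),
    (6, 10, 13), (6, 11, 37), (6, 12, 19), (7, 2, 127), (8, 2, 17), (8, 3, 41), (8, 4, 257), (9, 2, 73),
    (10, 3, 61), (10, 4, 41), (12, 3, 73), (12, 4, 241), (14, 2, 43), (14, 3, 547), (15, 2, 151),
    (16, 2, 257), (18, 3, 37), (20, 2, 41), (22, 2, 683), (24, 2, 241), (30, 2, 331), (36, 2, 109),
    (42, 2, 5419)]

theorem smallWitness_prime : ∀ x ∈ smallWitness, x.2.2.Prime := by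
  simp only [smallWitness, List.forall_mem_cons, List.not_mem_nil, IsEmpty.forall_iff, implies_true, and_true]
  norm_num

theorem smallWitness_isLarge : ∀ x ∈ smallWitness, IsLarge x.2.1 x.1 x.2.2 := by decide +kernel

/-- The exceptions of Feit's theorem with `n ≥ 3`. -/
def IsExceptional (q n : ℕ) : Prop :=
  (q = 2 ∧ (n = 4 ∨ n = 6 ∨ n = 10 ∨ n = 12 ∨ n = 18)) ∨ (q = 3 ∧ (n = 4 ∨ n = 6)) ∨ (q = 5 ∧ n = 6)

instance (q n : ℕ) : Decidable (IsExceptional q n) := inferInstanceAs (Decidable (_ ∨ _ ∨ _))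

theorem small_cover : ∀ n < 43, ∀ q < 85, n < 3 ∨ q < 2 ∨ 4 * (n * (n + 1)) < q ^ n.totient ∨
    IsExceptional q n ∨ ∃ x ∈ smallWitness, x.1 = n ∧ x.2.1 = q := by decide +kernel

/-- Feit's theorem for `n ≥ 3`. -/
theorem exists_large {q n : ℕ} (hq : 2 ≤ q) (hn : 2 < n) (he : ¬ IsExceptional q n) :
    ∃ p : ℕ, p.Prime ∧ IsLarge q n p := by
  by_contra hcon
  push Not at hcon
  have h1 := pow_totient_le_four_mul_cyclotomic hq (by omega : 0 < n)
  have h2 := bound_of_no_large hq hn hcon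
  have h3 : q ^ n.totient ≤ 4 * (n * (n + 1)) := by
    rw [mul_comm n (n + 1)]; omega
  have hn43 := lt_forty_three (le_trans (Nat.pow_le_pow_left hq _) h3)
  have hq85 : q < 85 := by
    have h4 : 2 ≤ n.totient := by
      have h5 := Nat.totient_pos.2 (by omega : 0 < n)
      rcases Nat.lt_or_ge 1 n.totient with h | h
      · exact h
      · rcases Nat.totient_eq_one_iff.1 (by omega : n.totient = 1) with h | h <;> omega
    have h5 : q ^ 2 ≤ q ^ n.totient := Nat.pow_le_pow_right (by omega) h4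
    by_contra hq
    have h6 : 85 ^ 2 ≤ q ^ 2 := Nat.pow_le_pow_left (by omega) 2
    have h7 : n * (n + 1) ≤ 42 * 43 := Nat.mul_le_mul (by omega) (by omega)
    omega
  rcases small_cover n hn43 q hq85 with h | h | h | h | ⟨x, hx, rfl, rfl⟩
  · omega
  · omega
  · omega
  · exact he h
  · exact hcon _ (smallWitness_prime x hx) (smallWitness_isLarge x hx)

end Cfsg.Agent.Zsigmondy
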